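import Groth.Agent.GrLib8.LefPicColim.Main
import Groth.Agent.S2831

/-!
# Invertible modules on the whole scheme under `Leff` and parafactoriality
-/

set_option autoImplicit false
set_option linter.style.haveILetI false
set_option linter.unusedSectionVars false
set_option backward.isDefEq.respectTransparency false
set_option backward.isDefEq.respectTransparency.types false
set_option maxHeartbeats 1000000

universe u

open CategoryTheory CategoryTheory.Limits AlgebraicGeometry TopologicalSpace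
open Groth.Agent Groth.Agent.H23

noncomputable section

namespace Groth.Agent.GrLib8.LefPicColim

variable {X : Scheme.{u}} (𝓘 : X.IdealSheafData)

/-- Trivial on a thickening implies trivial on a neighbourhood. -/
theorem nonempty_iso_of_trivial (h : Lef.LefCond X 𝓘) (p : ℕ)
    (hH1 : ∀ n : ℕ, p ≤ n → Subsingleton (Coh.HH X (kernel (Lef.quotMap (Lef.pow_succ_le 𝓘 n))) 1))
    (n : ℕ) (hn : p ≤ n) (U : X.Opens) (L : (U : Scheme.{u}).Modules) (g : (𝓘 ^ (n + 1)).subscheme ⟶ U)
    (hU : (𝓘.support : Set X) ⊆ (U : Set X)) (hg : g ≫ U.ι = (𝓘 ^ (n + 1)).subschemeι) (hL : PicF.IsInvertible L)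
    (ht : Nonempty ((Scheme.Modules.pullback g).obj L ≅ Coh.structureModule _)) :
    Nonempty (L ≅ Coh.structureModule _) := by
  obtain ⟨et⟩ := ht
  obtain ⟨o₁⟩ := PicClLib.nonempty_pullback_structureModule (H26.LefPic.gMap 𝓘 U n)
  obtain ⟨o₂⟩ := PicClLib.nonempty_pullback_structureModule ((𝓘.comap U.ι) ^ (n + 1)).subschemeι
  have hfac : H26.LefPic.gMap 𝓘 U n ≫ g = ((𝓘.comap U.ι) ^ (n + 1)).subschemeι := by
    rw [← cancel_mono U.ι, Category.assoc, hg, H26.LefPic.gMap_subschemeι]
  obtain ⟨c⟩ := nonempty_pull_comp (H26.LefPic.gMap 𝓘 U n) g _ hfac L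
  exact H26.LefPic.nonempty_iso_of_restrict h p hH1 U hU n hn hL InvX.isInvertible_structureModule
    ⟨c.symm ≪≫ (Scheme.Modules.pullback _).mapIso et ≪≫ o₁ ≪≫ o₂.symm⟩

/-- Invertible modules extend uniquely across parafactorial points. -/
theorem pic_restrict [IsLocallyNoetherian X] (U : X.Opens)
    (hpara : ∀ x : X, x ∉ U → ParaF.IsParafactorialLocalRing (X.presheaf.stalk x)) :
    Formal2.PicPullbackInjective U.ι ∧ Formal2.PicPullbackSurjective U.ι := by
  let Y : Closeds X := ⟨(U : Set X)ᶜ, U.isOpen.isClosed_compl⟩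
  have hp : ParaF.IsParafactorialPair X Y := (S2831.result X Y).2 hpara
  have key : ∀ (W : X.Opens) (h : W ≤ ⊤), W = U → ParaF.InvRestrictEquiv (X.homOfLE h) := by
    intro W h hW
    have e : W = ⊤ ⊓ Y.compl := by
      rw [hW, top_inf_eq]
      ext z
      exact (not_not (a := z ∈ U)).symm
    subst e
    exact hp ⊤
  obtain ⟨hhom, hess⟩ := key U le_top rfl
  let j := X.homOfLE (le_top : U ≤ ⊤)
  let t := (⊤ : X.Opens).ι
  haveI : IsIso t := inferInstanceAs (IsIso X.topIso.hom)
  refine ⟨fun L hL ⟨eL⟩ => ?_, fun L' hL' => ?_⟩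
  · obtain ⟨c⟩ := nonempty_pull_comp j t U.ι (X.homOfLE_ι _) L
    let M := (Scheme.Modules.pullback t).obj L
    let O := Coh.structureModule ((⊤ : X.Opens) : Scheme.{u})
    obtain ⟨o⟩ := PicClLib.nonempty_pullback_structureModule j
    have hM : PicF.IsInvertible M := PicClLib.isInvertible_pullback t hL
    have hO : PicF.IsInvertible O := InvX.isInvertible_structureModule
    let R := Scheme.Modules.restrictFunctor j
    let e : R.obj M ≅ R.obj O := (Scheme.Modules.restrictFunctorIsoPullback j).app M ≪≫ c ≪≫ eL ≪≫ o.symm ≪≫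
      ((Scheme.Modules.restrictFunctorIsoPullback j).app O).symm
    obtain ⟨φ, hφ⟩ := (hhom M O hM hO).2 e.hom
    obtain ⟨ψ, hψ⟩ := (hhom O M hO hM).2 e.inv
    let eM : M ≅ O := ⟨φ, ψ, (hhom M M hM hM).1 (by
        simp only [CategoryTheory.Functor.map_comp, CategoryTheory.Functor.map_id] at hφ hψ ⊢
        rw [hφ, hψ, e.hom_inv_id]),
      (hhom O O hO hO).1 (by
        simp only [CategoryTheory.Functor.map_comp, CategoryTheory.Functor.map_id] at hφ hψ ⊢
        rw [hφ, hψ, e.inv_hom_id])⟩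
    obtain ⟨c'⟩ := nonempty_pull_comp (inv t) t (𝟙 X) (IsIso.inv_hom_id t) L
    obtain ⟨o'⟩ := PicClLib.nonempty_pullback_structureModule (inv t)
    exact ⟨((Scheme.Modules.pullbackId X).app L).symm ≪≫ c'.symm ≪≫ (Scheme.Modules.pullback (inv t)).mapIso eM ≪≫ o'⟩
  · obtain ⟨L, hL, ⟨e⟩⟩ := hess L' hL'
    refine ⟨(Scheme.Modules.pullback (inv t)).obj L, PicClLib.isInvertible_pullback _ hL, ?_⟩
    obtain ⟨c⟩ := nonempty_pull_pull U.ι (inv t) j (𝟙 _) (by
      rw [Category.comp_id, IsIso.comp_inv_eq]; exact (X.homOfLE_ι le_top).symm) L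
    exact ⟨c ≪≫ (Scheme.Modules.pullback j).mapIso ((Scheme.Modules.pullbackId _).app L) ≪≫
      ((Scheme.Modules.restrictFunctorIsoPullback j).app L).symm ≪≫ e⟩

end Groth.Agent.GrLib8.LefPicColim
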