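import Groth.Prelude.Def_LefX
import Groth.Prelude.Def_Formal2
import Groth.Agent.H26.LefPic.Main
import Groth.Agent.PicLift.Main
import Groth.Agent.ParaFX.Closed
import Groth.Agent.TFOneX.Beta
import Groth.Agent.GenusOneSS.Free
import Groth.Agent.ConsPropLib.FibreLocFreeRank
import Groth.Agent.SeesawX.Glue
import Groth.Agent.SeesawX.Crit

/-!
# Invertible modules near a closed subscheme satisfying `Leff`
-/

set_option autoImplicit false
set_option linter.style.haveILetI false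
set_option linter.unusedSectionVars false
set_option backward.isDefEq.respectTransparency false
set_option backward.isDefEq.respectTransparency.types false
set_option maxHeartbeats 1000000

universe u

open CategoryTheory CategoryTheory.Limits AlgebraicGeometry TopologicalSpace
open Groth.Agent Groth.Agent.H23

noncomputable section

namespace Groth.Agent.GrLib8.LefPicColim

variable {X : Scheme.{u}} (𝓘 : X.IdealSheafData)

theorem le_pow {a b : ℕ} (h : a ≤ b) : 𝓘 ^ b ≤ 𝓘 ^ a := by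
  obtain ⟨c, rfl⟩ := Nat.exists_eq_add_of_le h
  intro U
  rw [pow_add, Scheme.IdealSheafData.ideal_mul, Pi.mul_apply]
  exact Ideal.mul_le_left

omit 𝓘 in
theorem incl_comp {I J K : X.IdealSheafData} (h₁ : I ≤ J) (h₂ : J ≤ K) (h₃ : I ≤ K) :
    Scheme.IdealSheafData.inclusion h₂ ≫ Scheme.IdealSheafData.inclusion h₁ = Scheme.IdealSheafData.inclusion h₃ := by
  rw [← cancel_mono I.subschemeι, Category.assoc, Scheme.IdealSheafData.inclusion_subschemeι,
    Scheme.IdealSheafData.inclusion_subschemeι, Scheme.IdealSheafData.inclusion_subschemeι]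

/-- Isomorphic pullbacks along equal composites. -/
theorem nonempty_pull_pull {A B B' C : Scheme.{u}} (f : A ⟶ B) (g : B ⟶ C) (f' : A ⟶ B') (g' : B' ⟶ C)
    (h : f ≫ g = f' ≫ g') (M : C.Modules) :
    Nonempty ((Scheme.Modules.pullback f).obj ((Scheme.Modules.pullback g).obj M) ≅
      (Scheme.Modules.pullback f').obj ((Scheme.Modules.pullback g').obj M)) :=
  ⟨(Scheme.Modules.pullbackComp f g).app M ≪≫ (Scheme.Modules.pullbackCongr h).app M ≪≫
    ((Scheme.Modules.pullbackComp f' g').app M).symm⟩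

theorem nonempty_pull_comp {A B C : Scheme.{u}} (f : A ⟶ B) (g : B ⟶ C) (h : A ⟶ C) (e : f ≫ g = h) (M : C.Modules) :
    Nonempty ((Scheme.Modules.pullback f).obj ((Scheme.Modules.pullback g).obj M) ≅ (Scheme.Modules.pullback h).obj M) :=
  ⟨(Scheme.Modules.pullbackComp f g).app M ≪≫ (Scheme.Modules.pullbackCongr e).app M⟩

/-- One step of the lifting. -/
theorem exists_step (k : ℕ)
    (h2 : Subsingleton (Coh.HH X (kernel (Lef.quotMap (Lef.pow_succ_le 𝓘 k))) 2))
    (N : (𝓘 ^ (k + 1)).subscheme.Modules) (hN : PicF.IsInvertible N) :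
    ∃ N' : (𝓘 ^ (k + 2)).subscheme.Modules, PicF.IsInvertible N' ∧
      Nonempty ((Scheme.Modules.pullback (Scheme.IdealSheafData.inclusion (Lef.pow_succ_le 𝓘 k))).obj N' ≅ N) := by
  let t := Scheme.IdealSheafData.inclusion (Lef.pow_succ_le 𝓘 k)
  haveI : IsIso t.toImage := inferInstance
  obtain ⟨L', hL', ⟨e⟩⟩ := PicLift.exists_lift (H26.LefPic.ker_sq_pow 𝓘 k)
    (H26.LefPic.subsingleton_HH_idealMod (Lef.pow_succ_le 𝓘 k) 2 h2)
    ((Scheme.Modules.pullback (inv t.toImage)).obj N) (PicClLib.isInvertible_pullback _ hN)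
  refine ⟨L', hL', ⟨?_⟩⟩
  exact ((Scheme.Modules.pullbackCongr t.toImage_imageι).app L').symm ≪≫
    ((Scheme.Modules.pullbackComp t.toImage t.ker.subschemeι).app L').symm ≪≫
    (Scheme.Modules.pullback t.toImage).mapIso e ≪≫
    (Scheme.Modules.pullbackComp t.toImage (inv t.toImage)).app N ≪≫
    (Scheme.Modules.pullbackCongr (IsIso.hom_inv_id t.toImage)).app N ≪≫
    (Scheme.Modules.pullbackId _).app N

omit 𝓘 in
/-- A compatible system through a given module, in a decreasing family of ideals. -/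
theorem exists_system (P : ℕ → X.IdealSheafData) (hP : Antitone P) (n : ℕ)
    (hlift : ∀ a, n ≤ a → ∀ M : (P a).subscheme.Modules, PicF.IsInvertible M →
      ∃ M' : (P (a + 1)).subscheme.Modules, PicF.IsInvertible M' ∧
        Nonempty ((Scheme.Modules.pullback (Scheme.IdealSheafData.inclusion (hP a.le_succ))).obj M' ≅ M))
    (N : (P n).subscheme.Modules) (hN : PicF.IsInvertible N) :
    ∃ F : ∀ a, (P a).subscheme.Modules, (∀ a, PicF.IsInvertible (F a)) ∧
      (∀ a, Nonempty ((Scheme.Modules.pullback (Scheme.IdealSheafData.inclusion (hP a.le_succ))).obj (F (a + 1)) ≅ F a)) ∧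
      Nonempty (F n ≅ N) := by
  choose lift hliftinv hlift using fun (j : ℕ) (M : (P (n + j)).subscheme.Modules) (hM : PicF.IsInvertible M) =>
    hlift (n + j) (Nat.le_add_right n j) M hM
  let G : ∀ j, {M : (P (n + j)).subscheme.Modules // PicF.IsInvertible M} :=
    fun j => Nat.rec ⟨N, hN⟩ (fun j M => ⟨lift j M.1 M.2, hliftinv j M.1 M.2⟩) j
  let inc : ∀ a j, a ≤ n + j → ((P a).subscheme ⟶ (P (n + j)).subscheme) :=
    fun a j h => Scheme.IdealSheafData.inclusion (hP h)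
  have hG : ∀ j, Nonempty ((Scheme.Modules.pullback (inc n j (Nat.le_add_right n j))).obj (G j).1 ≅ N) := by
    intro j
    induction j with
    | zero =>
      exact ⟨(Scheme.Modules.pullbackCongr (show inc n 0 (Nat.le_add_right n 0) = 𝟙 _ by
        rw [← cancel_mono (P n).subschemeι, Category.id_comp]
        exact Scheme.IdealSheafData.inclusion_subschemeι _)).app _ ≪≫
        (Scheme.Modules.pullbackId _).app N⟩
    | succ j ih =>
      obtain ⟨i⟩ := ih
      obtain ⟨c⟩ := nonempty_pull_comp (inc n j (Nat.le_add_right n j))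
        (Scheme.IdealSheafData.inclusion (hP (n + j).le_succ)) (inc n (j + 1) (Nat.le_add_right n (j + 1)))
        (incl_comp _ _ _)
        (G (j + 1)).1
      exact ⟨c.symm ≪≫ (Scheme.Modules.pullback _).mapIso (hlift j (G j).1 (G j).2).some ≪≫ i⟩
  refine ⟨fun a => (Scheme.Modules.pullback (inc a a (Nat.le_add_left a n))).obj (G a).1,
    fun a => PicClLib.isInvertible_pullback _ (G a).2, fun a => ?_, hG n⟩
  obtain ⟨c⟩ := nonempty_pull_pull (Scheme.IdealSheafData.inclusion (hP a.le_succ))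
    (inc (a + 1) (a + 1) (Nat.le_add_left _ n)) (inc a a (Nat.le_add_left a n))
    (Scheme.IdealSheafData.inclusion (hP (n + a).le_succ))
    ((incl_comp _ _ (hP (show a ≤ n + (a + 1) by omega))).trans (incl_comp _ _ _).symm)
    (G (a + 1)).1
  exact ⟨c ≪≫ (Scheme.Modules.pullback _).mapIso (hlift a (G a).1 (G a).2).some⟩

/-- An invertible module on a thickening lifts to all higher ones. -/
theorem exists_tower (n : ℕ)
    (h2 : ∀ k, n ≤ k → Subsingleton (Coh.HH X (kernel (Lef.quotMap (Lef.pow_succ_le 𝓘 k))) 2))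
    (N : (𝓘 ^ (n + 1)).subscheme.Modules) (hN : PicF.IsInvertible N) :
    ∃ 𝔐 : FSch.ModSys (FSch.completionAlong X 𝓘), LefX.LevelwiseFinLocFree 𝔐 ∧ Nonempty (𝔐.F n ≅ N) := by
  obtain ⟨F, hF, hstep, hn⟩ := exists_system (fun a => 𝓘 ^ (a + 1))
    (fun a b h => le_pow 𝓘 (Nat.add_le_add_right h 1)) n
    (fun a ha M hM => exists_step 𝓘 a (h2 a ha) M hM) N hN
  exact ⟨⟨F, fun a => (hstep a).some⟩, fun a => H23.PullPush.isFinLocFree_of_isInvertible (hF a), hn⟩

/-- **Invertible modules on a thickening extend to a neighbourhood.** -/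
theorem exists_extension (h : LefX.LeffCond X 𝓘) (n : ℕ)
    (h2 : ∀ k, n ≤ k → Subsingleton (Coh.HH X (kernel (Lef.quotMap (Lef.pow_succ_le 𝓘 k))) 2))
    (N : (𝓘 ^ (n + 1)).subscheme.Modules) (hN : PicF.IsInvertible N) :
    ∃ (U : X.Opens) (L : (U : Scheme.{u}).Modules) (g : (𝓘 ^ (n + 1)).subscheme ⟶ U),
      (𝓘.support : Set X) ⊆ (U : Set X) ∧ g ≫ U.ι = (𝓘 ^ (n + 1)).subschemeι ∧ PicF.IsInvertible L ∧
        Nonempty ((Scheme.Modules.pullback g).obj L ≅ N) := by
  classical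
  obtain ⟨𝔐, h𝔐, ⟨eN⟩⟩ := exists_tower 𝓘 n h2 N hN
  obtain ⟨U, E, hU, hE, ⟨eM⟩⟩ := h.2 𝔐 h𝔐
  let en : (Scheme.Modules.pullback (𝓘 ^ (n + 1)).subschemeι).obj ((Scheme.Modules.pushforward U.ι).obj E) ≅ N :=
    (⟨eM.hom.app n, eM.inv.app n,
      congrArg (fun φ : FSch.completionMod 𝓘 ((Scheme.Modules.pushforward U.ι).obj E) ⟶ _ => FSch.ModSys.Hom.app φ n) eM.hom_inv_id,
      congrArg (fun φ : 𝔐 ⟶ _ => FSch.ModSys.Hom.app φ n) eM.inv_hom_id⟩ :
      (FSch.completionMod 𝓘 ((Scheme.Modules.pushforward U.ι).obj E)).F n ≅ 𝔐.F n) ≪≫ eN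
  have hrange : ∀ z, (𝓘 ^ (n + 1)).subschemeι z ∈ 𝓘.support := fun z => by
    have hz : (𝓘 ^ (n + 1)).subschemeι z ∈ ((𝓘 ^ (n + 1)).support : Set X) :=
      (Scheme.IdealSheafData.range_subschemeι _).subset ⟨z, rfl⟩
    rwa [Scheme.IdealSheafData.support_pow_succ] at hz
  -- the opens on which `E` is a line bundle
  let W : X.Opens := ⨆ V : {V : X.Opens // ∃ hV : V ≤ U, PicF.IsInvertible
    ((Scheme.Modules.pullback (X.homOfLE hV)).obj E)}, V.1
  have hWU : W ≤ U := iSup_le fun V => V.2.1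
  have hY : (𝓘.support : Set X) ⊆ (W : Set X) := fun y hy => by
    obtain ⟨z, hz⟩ : y ∈ Set.range (𝓘 ^ (n + 1)).subschemeι := by
      rw [Scheme.IdealSheafData.range_subschemeι, Scheme.IdealSheafData.support_pow_succ]; exact hy
    obtain ⟨T, m, hyT, ⟨eT⟩⟩ := hE ⟨y, hU hy⟩
    let V : X.Opens := U.ι ''ᵁ T
    have hVU : V ≤ U := by
      rintro _ ⟨w, -, rfl⟩
      exact w.2
    have hyV : y ∈ V := ⟨⟨y, hU hy⟩, hyT, rfl⟩
    let b : (V : Scheme.{u}) ⟶ T := (U.ι.isoImage T).inv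
    have hb : (b ≫ T.ι) ≫ U.ι = V.ι := by simp [b, V]
    have hfree : FlatMod.IsFinLocFreeOfRank m ((Scheme.Modules.pullback (X.homOfLE hVU)).obj E) := by
      refine (ConsPropLib.isFinLocFreeOfRank_iso ?_).1 (TFOneX.isFinLocFreeOfRank_pullback b
        (GenusOneSS.isFinLocFreeOfRank_freeMod (X := (T : Scheme.{u})) m))
      exact (Scheme.Modules.pullback b).mapIso (eT.symm ≪≫ (Scheme.Modules.restrictFunctorIsoPullback T.ι).app E) ≪≫
        (Scheme.Modules.pullbackComp b T.ι).app E ≪≫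
        (Scheme.Modules.pullbackCongr (by rw [← cancel_mono U.ι, hb, Scheme.homOfLE_ι])).app E
    suffices hm : m = 1 by
      refine Opens.mem_iSup.2 ⟨⟨V, hVU, ?_⟩, hyV⟩
      subst hm
      intro w
      obtain ⟨O, hwO, ⟨e⟩⟩ := hfree w
      exact ⟨O, hwO, ⟨e ≪≫ H23.DblAlg.freeOneIso _⟩⟩
    let O := (𝓘 ^ (n + 1)).subschemeι ⁻¹ᵁ V
    let gV : (O : Scheme.{u}) ⟶ V := (𝓘 ^ (n + 1)).subschemeι ∣_ V
    have hzO : z ∈ O := show (𝓘 ^ (n + 1)).subschemeι z ∈ V from hz ▸ hyV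
    obtain ⟨c1⟩ := nonempty_pull_comp gV (X.homOfLE hVU) (gV ≫ X.homOfLE hVU) rfl E
    refine SeesawX.rank_unique (⟨z, hzO⟩ : (O : Scheme.{u})) (TFOneX.isFinLocFreeOfRank_pullback gV hfree)
      ((ConsPropLib.isFinLocFreeOfRank_iso ?_).1 (SeesawX.isFinLocFreeOfRank_one (PicClLib.isInvertible_pullback O.ι hN)))
    refine (Scheme.Modules.pullback O.ι).mapIso en.symm ≪≫ (Scheme.Modules.pullbackComp _ _).app _ ≪≫
      (Scheme.Modules.pullbackCongr (show O.ι ≫ (𝓘 ^ (n + 1)).subschemeι = (gV ≫ X.homOfLE hVU) ≫ U.ι by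
        rw [Category.assoc, Scheme.homOfLE_ι, morphismRestrict_ι])).app _ ≪≫
      ((Scheme.Modules.pullbackComp _ U.ι).app _).symm ≪≫ (Scheme.Modules.pullback _).mapIso
        (((Scheme.Modules.restrictFunctorIsoPullback U.ι).app _).symm ≪≫ ParaFX.restrictPushforward U.ι E) ≪≫ c1.symm
  let L := (Scheme.Modules.pullback (X.homOfLE hWU)).obj E
  have hL : PicF.IsInvertible L := by
    refine ParaFX.isInvertible_of_cover
      (fun V : {V : X.Opens // ∃ hV : V ≤ U, PicF.IsInvertible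
        ((Scheme.Modules.pullback (X.homOfLE hV)).obj E)} => W.ι ⁻¹ᵁ V.1)
      (fun w => (Opens.mem_iSup.1 (show w.1 ∈ W from w.2)).imp fun _ h => h) fun V => ?_
    obtain ⟨hVU, hV⟩ := V.2
    let T := W.ι ⁻¹ᵁ V.1
    let q : (T : Scheme.{u}) ⟶ V.1 := W.ι ∣_ V.1
    obtain ⟨c⟩ := nonempty_pull_pull q (X.homOfLE hVU) T.ι (X.homOfLE hWU) (by
      rw [← cancel_mono U.ι, Category.assoc, Category.assoc, Scheme.homOfLE_ι, Scheme.homOfLE_ι, morphismRestrict_ι]) E
    exact ParaFX.isInvertible_of_iso (c ≪≫ ((Scheme.Modules.restrictFunctorIsoPullback T.ι).app L).symm)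
      (PicClLib.isInvertible_pullback q hV)
  have hgr : Set.range (𝓘 ^ (n + 1)).subschemeι ⊆ Set.range W.ι := by
    rintro _ ⟨z, rfl⟩
    rw [Scheme.Opens.range_ι]
    exact hY (hrange z)
  let g := IsOpenImmersion.lift W.ι (𝓘 ^ (n + 1)).subschemeι hgr
  refine ⟨W, L, g, hY, IsOpenImmersion.lift_fac _ _ _, hL, ⟨?_⟩⟩
  exact (Scheme.Modules.pullbackComp g (X.homOfLE hWU)).app E ≪≫
    (Scheme.Modules.pullback (g ≫ X.homOfLE hWU)).mapIso
      ((ParaFX.restrictPushforward U.ι E).symm ≪≫ (Scheme.Modules.restrictFunctorIsoPullback U.ι).app _) ≪≫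
    (Scheme.Modules.pullbackComp _ U.ι).app _ ≪≫
    (Scheme.Modules.pullbackCongr (show (g ≫ X.homOfLE hWU) ≫ U.ι = (𝓘 ^ (n + 1)).subschemeι by
      rw [Category.assoc, Scheme.homOfLE_ι, IsOpenImmersion.lift_fac])).app _ ≪≫ en

end Groth.Agent.GrLib8.LefPicColim
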